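import Mathlib.RingTheory.Etale.Kaehler
import Mathlib.AlgebraicGeometry.Morphisms.Etale
import Mathlib.AlgebraicGeometry.AffineScheme
import Mathlib.Topology.Sheaves.SheafCondition.Sites
import Groth.Prelude.Def_Coh

/-!
# Derivations of the base extend to étale schemes
-/

set_option autoImplicit false
universe u

open CategoryTheory AlgebraicGeometry TopologicalSpace Opposite TensorProduct

noncomputable section

namespace Groth.Agent.EtDeriv27

section Alg

variable {A B C : Type u} [CommRing A] [CommRing B] [Algebra A B] [Algebra.FormallyEtale A B]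
  (θ : Derivation ℤ A A)

/-- `b ⊗ ω ↦ θ(ω) • b`. -/
def liftΩ : B ⊗[A] Ω[A⁄ℤ] →ₗ[A] B :=
  TensorProduct.lift (LinearMap.flip ((LinearMap.lsmul A B).comp θ.liftKaehlerDifferential))

/-- The extension of a derivation along a formally étale algebra. -/
def extDer : B →+ B :=
  AddMonoidHom.comp
    (LinearMap.toAddMonoidHom
      ((liftΩ (B := B) θ).comp
        ((KaehlerDifferential.tensorKaehlerEquivOfFormallyEtale ℤ A B).symm.toLinearMap.restrictScalars A)))
    (KaehlerDifferential.D ℤ B).toLinearMap.toAddMonoidHom

theorem extDer_algebraMap (a : A) : extDer (B := B) θ (algebraMap A B a) = algebraMap A B (θ a) := by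
  simp [extDer, liftΩ, KaehlerDifferential.tensorKaehlerEquivOfFormallyEtale_symm_D_algebraMap, Algebra.smul_def]

theorem extDer_mul (x y : B) : extDer (B := B) θ (x * y) = x * extDer θ y + y * extDer θ x := by
  have key : ∀ (b : B) (z : B ⊗[A] Ω[A⁄ℤ]),
      liftΩ (B := B) θ (b • z) =
        b * liftΩ (B := B) θ z := by
    intro b z
    induction z with
    | zero => simp
    | tmul c w => simp [liftΩ, TensorProduct.smul_tmul', mul_smul_comm]
    | add z w hz hw => simp [smul_add, hz, hw, mul_add]
  simp [extDer, key]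

/-- Maps out of a formally unramified algebra commuting with extended derivations. -/
theorem extDer_natural [CommRing C] [Algebra A C] [Algebra.FormallyEtale A C] (φ : B →ₐ[A] C) (x : B) :
    extDer (B := C) θ (φ x) = φ (extDer θ x) := by
  let _ : Algebra B C := φ.toRingHom.toAlgebra
  haveI : IsScalarTower A B C := IsScalarTower.of_algebraMap_eq fun a => (φ.commutes a).symm
  let d : Derivation A B C := Derivation.mk'
    { toFun := fun x => extDer (B := C) θ (φ x) - φ (extDer θ x)
      map_add' := fun x y => by simp only [map_add]; ring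
      map_smul' := fun a x => by
        simp only [Algebra.smul_def, map_mul, AlgHom.commutes, extDer_mul, extDer_algebraMap, map_add,
          RingHom.id_apply]
        ring }
    fun x y => by
      show extDer (B := C) θ (φ (x * y)) - φ (extDer θ (x * y)) = φ x * _ + φ y * _
      simp only [map_mul, extDer_mul, map_add, LinearMap.coe_mk, AddHom.coe_mk]
      ring
  have h : d = 0 := (KaehlerDifferential.linearMapEquivDerivation A B).symm.injective (Subsingleton.elim _ _)
  exact sub_eq_zero.1 (Derivation.congr_fun h x)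

end Alg

variable {A : Type u} [CommRing A] {V : Scheme.{u}} (f : V ⟶ Spec (CommRingCat.of A)) [Etale f]
  (θ : Derivation ℤ A A)

/-- The structure map on an open. -/
def str (U : V.Opens) : A →+* Γ(V, U) := (Coh.resTop V (op U)).comp (Coh.toGlobal f)

theorem formallyEtale_str (U : V.affineOpens) :
    @Algebra.FormallyEtale A Γ(V, U.1) _ _ (str f U.1).toAlgebra := by
  have h : (f.appLE ⊤ U.1 le_top).hom.Etale :=
    HasRingHomProperty.appLE (P := @Etale) f inferInstance ⟨⊤, isAffineOpen_top _⟩ U le_top
  have h' : (str f U.1).Etale := by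
    have he : str f U.1 = ((Scheme.ΓSpecIso (CommRingCat.of A)).inv ≫ f.appLE ⊤ U.1 le_top).hom := rfl
    rw [he]
    exact (RingHom.Etale.respectsIso.cancel_left_isIso _ _).2 h
  haveI := h'.toAlgebra
  exact Algebra.Etale.formallyEtale

/-- The derivation on an affine open. -/
def derOn (U : V.affineOpens) : Γ(V, U.1) →+ Γ(V, U.1) :=
  letI := (str f U.1).toAlgebra
  haveI := formallyEtale_str f U
  extDer θ

abbrev OAb (V : Scheme.{u}) := Coh.toAb (Coh.structureModule V)

/-- The derivation operator on the structure sheaf. -/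
def derSheaf : OAb V ⟶ OAb V :=
  ⟨TopCat.Sheaf.restrictHomEquivHom (OAb V).obj (OAb V) (B := fun U : V.affineOpens => U.1)
    (by rw [Subtype.range_coe]; exact V.isBasis_affineOpens)
    { app := fun U => AddCommGrpCat.ofHom (derOn f θ U.unop)
      naturality := fun U W g => by
        ext x
        letI := (str f U.unop.1).toAlgebra
        letI := (str f W.unop.1).toAlgebra
        haveI := formallyEtale_str f U.unop
        haveI := formallyEtale_str f W.unop
        exact extDer_natural (B := Γ(V, U.unop.1)) (C := Γ(V, W.unop.1)) θ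
          { toRingHom := (V.presheaf.map g.unop.hom.op).hom
            commutes' := fun a => Coh.resTop_comp (op U.unop.1) (op W.unop.1) g.unop.hom.op (Coh.toGlobal f a) } x }⟩

theorem derSheaf_app (U : V.affineOpens) (x : Γ(V, U.1)) :
    (derSheaf f θ).hom.app (op U.1) x = derOn f θ U x :=
  ConcreteCategory.congr_hom (TopCat.Sheaf.extend_hom_app (OAb V).obj (OAb V) (B := fun U : V.affineOpens => U.1)
    (by rw [Subtype.range_coe]; exact V.isBasis_affineOpens) _ U) x

theorem smulAb_comp_derSheaf (a : A) :
    Coh.smulAb (Coh.structureModule V) (Coh.toGlobal f a) ≫ derSheaf f θ =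
      Coh.smulAb (Coh.structureModule V) (Coh.toGlobal f (θ a)) +
        derSheaf f θ ≫ Coh.smulAb (Coh.structureModule V) (Coh.toGlobal f a) := by
  refine CategoryTheory.Sheaf.hom_ext (TopCat.Sheaf.hom_ext (OAb V).obj (OAb V) (B := fun U : V.affineOpens => U.1)
    (by rw [Subtype.range_coe]; exact V.isBasis_affineOpens) fun U => ?_)
  refine AddCommGrpCat.hom_ext (AddMonoidHom.ext fun (x : Γ(V, U.1)) => ?_)
  letI := (str f U.1).toAlgebra
  haveI := formallyEtale_str f U
  refine (derSheaf_app f θ U (algebraMap A Γ(V, U.1) a * x)).trans (Eq.trans ?_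
    (congrArg (fun z : Γ(V, U.1) => algebraMap A Γ(V, U.1) (θ a) * x + algebraMap A Γ(V, U.1) a * z)
      (derSheaf_app f θ U x).symm))
  show extDer θ _ = _ + _ * extDer θ x
  rw [extDer_mul, extDer_algebraMap]
  ring

theorem H_map_identity {F : Sheaf (Opens.grothendieckTopology V.carrier) AddCommGrpCat.{u}} (u v w : F ⟶ F) (h : u ≫ v = w + v ≫ u)
    (i : ℕ) [HasExt.{u} (Sheaf (Opens.grothendieckTopology V.carrier) AddCommGrpCat.{u})] (ξ : F.H i) :
    Sheaf.H.map v i (Sheaf.H.map u i ξ) = Sheaf.H.map w i ξ + Sheaf.H.map u i (Sheaf.H.map v i ξ) := by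
  rw [← Sheaf.H.map_comp_apply, h, Sheaf.H.map_add_apply, Sheaf.H.map_comp_apply]

/-- Derivation operators on cohomology. -/
theorem exists_operator (i : ℕ) :
    ∃ D : Coh.HH V (Coh.structureModule V) i →+ Coh.HH V (Coh.structureModule V) i, ∀ (a : A)
      (ξ : Coh.HH V (Coh.structureModule V) i),
      D (Coh.toGlobal f a • ξ) = Coh.toGlobal f (θ a) • ξ + Coh.toGlobal f a • D ξ :=
  ⟨Sheaf.H.map (derSheaf f θ) i, fun a ξ =>
    H_map_identity (Coh.smulAb (Coh.structureModule V) (Coh.toGlobal f a)) (derSheaf f θ)
      (Coh.smulAb (Coh.structureModule V) (Coh.toGlobal f (θ a))) (smulAb_comp_derSheaf f θ a) i ξ⟩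

end Groth.Agent.EtDeriv27
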